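import Cfsg.Agent.H301.SY.Base
import Cfsg.Agent.H129.CycT2

/-!
# Rows `E₇(q)`, `E₈(q)` of S3846: semisimple elements with centralisers of order prime to the characteristic

`zc_of_three` : three elements of different prime orders are enough for `Zc`.
-/

set_option autoImplicit false
set_option linter.unusedSectionVars false

namespace Cfsg.Agent.H120.ZcE

open CoxeterSystem Cfsg Cfsg.Lie Cfsg.Lie.ChevalleyDatum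
open Cfsg.Agent.ChevalleyStructure Cfsg.Agent.ChevalleyStructure.Elts Cfsg.Agent.ChevalleyStructure.CoxeterGeom
  Cfsg.Agent.ChevalleyStructure.CoxeterGeomTypes Cfsg.Agent.ChevalleyStructure.NPerm
open Cfsg.Agent.Tits.Roots Cfsg.Agent.Tits.Core Cfsg.Agent.Nodes Cfsg.Agent.Nodes.Reps Cfsg.Agent.Nodes.BNOf
  Cfsg.Agent.Nodes.RGDChev Cfsg.Agent.Nodes.Bruhat Cfsg.Agent.Nodes.SubComb Cfsg.Agent.Nodes.Coroot
open Cfsg.Agent.H129 Cfsg.Agent.H129.TorusChar Cfsg.Agent.H129.TorusTw Cfsg.Agent.H129.WData Cfsg.Agent.H129.TorAct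
  Cfsg.Agent.H129.RealT Cfsg.Agent.H129.CycT Cfsg.Agent.H301.SY

universe u

/-! ### Abstract part -/

/-- an element of order `w` whose centralizer has order prime to `r` -/
def Elt (K : Type*) [Group K] (r w : ℕ) : Prop :=
  ∃ z : K, orderOf z = w ∧ ¬ r ∣ Nat.card (Subgroup.centralizer ({z} : Set K))

theorem zc_of_three {K : Type*} [Group K] {r p : ℕ} (hp : p.Prime) {w1 w2 w3 : ℕ} (h1 : w1.Prime) (h2 : w2.Prime)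
    (h3 : w3.Prime) (h12 : w1 ≠ w2) (h13 : w1 ≠ w3) (h23 : w2 ≠ w3) (e1 : Elt K r w1) (e2 : Elt K r w2)
    (e3 : Elt K r w3) : Zc r p K := by
  intro s hs _ _
  have key : ∀ w, w.Prime → w ≠ p → w ≠ s → Elt K r w →
      ∃ z : K, z ≠ 1 ∧ ¬ r ∣ Nat.card (Subgroup.centralizer ({z} : Set K)) ∧ (orderOf z).Coprime (p * s) := by
    rintro w hw hwp hws ⟨z, hz, hc⟩
    refine ⟨z, ?_, hc, ?_⟩
    · rintro rfl
      rw [orderOf_one] at hz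
      exact hw.one_lt.ne hz
    · rw [hz]
      exact ((Nat.coprime_primes hw hp).2 hwp).mul_right ((Nat.coprime_primes hw hs).2 hws)
  by_cases a1 : w1 = p ∨ w1 = s
  · by_cases a2 : w2 = p ∨ w2 = s
    · by_cases a3 : w3 = p ∨ w3 = s
      · exfalso
        rcases a1 with rfl | rfl <;> rcases a2 with a2 | a2 <;> rcases a3 with a3 | a3 <;> subst_vars <;> tauto
      · push Not at a3
        exact key w3 h3 a3.1 a3.2 e3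
    · push Not at a2
      exact key w2 h2 a2.1 a2.2 e2
  · push Not at a1
    exact key w1 h1 a1.1 a1.2 e1

theorem elt_of_T {G : Type*} [Group G] [Finite G] {T : Subgroup G} {N w r : ℕ} (hT : Nat.card ↥T ∣ N) (hw : w.Prime)
    (hwT : w ∣ Nat.card ↥T) (hc : ∀ y ∈ T, orderOf y = w → Subgroup.centralizer {y} ≤ T) (hr : ¬ r ∣ N) : Elt G r w := by
  have : Fact w.Prime := ⟨hw⟩
  obtain ⟨⟨z, hzT⟩, hz⟩ := exists_prime_orderOf_dvd_card' (G := ↥T) w hwT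
  rw [Subgroup.orderOf_mk] at hz
  refine ⟨z, hz, fun h => hr ?_⟩
  exact h.trans ((Subgroup.card_dvd_of_le (hc z hzT hz)).trans hT)

theorem elt_of_exact {G : Type*} [Group G] [Finite G] {N w r : ℕ} (h : CycExact G N) (hw : w.Prime) (hwN : w ∣ N)
    (hr : ¬ r ∣ N) : Elt G r w := by
  obtain ⟨T, -, h2, h3⟩ := h
  refine elt_of_T (T := T) (dvd_of_eq h2) hw (h2 ▸ hwN) (fun y hy hyw => (h3 y hy ?_).le) hr
  rintro rfl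
  rw [orderOf_one] at hyw
  exact hw.one_lt.ne hyw

/-- a prime divisor different from `c` -/
theorem exists_prime_ne {N c : ℕ} (hc : c.Prime) (h1 : c < N) (h2 : ¬ c * c ∣ N) : ∃ w, w.Prime ∧ w ∣ N ∧ w ≠ c := by
  by_cases hcN : c ∣ N
  · obtain ⟨m, rfl⟩ := hcN
    have hm : m ≠ 1 := by
      rintro rfl
      omega
    refine ⟨m.minFac, Nat.minFac_prime hm, (Nat.minFac_dvd m).mul_left c, ?_⟩
    intro h
    exact h2 (Nat.mul_dvd_mul_left c (h ▸ Nat.minFac_dvd m))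
  · have hN : N ≠ 1 := by
      rintro rfl
      exact absurd hc.one_lt (by omega)
    refine ⟨N.minFac, Nat.minFac_prime hN, Nat.minFac_dvd N, ?_⟩
    intro h
    exact hcN (h ▸ Nat.minFac_dvd N)

theorem char_dvd {F : Type*} [Field F] [Fintype F] {r : ℕ} [CharP F r] {q : ℕ} (hq : Fintype.card F = q) : r ∣ q := by
  rw [← hq, ← CharP.cast_eq_zero_iff F r]
  exact Nat.cast_card_eq_zero F

theorem not_dvd_of_coprime {r q N : ℕ} (hr : r.Prime) (h : r ∣ q) (hqN : q.Coprime N) : ¬ r ∣ N := by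
  intro h1
  have h2 := Nat.dvd_gcd h h1
  rw [hqN] at h2
  exact hr.one_lt.ne' (Nat.dvd_one.1 h2)

/-! ### Distinct primes -/

section distinct

variable {q N N' w : ℕ}

theorem d_15_24 (hN : (N : ℤ) = 1 - (q : ℤ) + (q : ℤ) ^ 3 - (q : ℤ) ^ 4 + (q : ℤ) ^ 5 - (q : ℤ) ^ 7 + (q : ℤ) ^ 8)
    (hN' : (N' : ℤ) = 1 - (q : ℤ) ^ 4 + (q : ℤ) ^ 8) (hw : w.Prime) (h : w ∣ N) (h' : w ∣ N') : False := by
  have : Fact w.Prime := ⟨hw⟩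
  have h1 := zmod_of_dvd hN h
  have h2 := zmod_of_dvd hN' h'
  push_cast at h1 h2
  apply one_ne_zero (α := ZMod w)
  generalize (q : ZMod w) = x at h1 h2
  linear_combination (x - x ^ 5 - x ^ 7) * h1 + (1 - x + x ^ 2 + x ^ 5 - x ^ 6 + x ^ 7) * h2

theorem d_24_30 (hN : (N : ℤ) = 1 - (q : ℤ) ^ 4 + (q : ℤ) ^ 8)
    (hN' : (N' : ℤ) = 1 + (q : ℤ) - (q : ℤ) ^ 3 - (q : ℤ) ^ 4 - (q : ℤ) ^ 5 + (q : ℤ) ^ 7 + (q : ℤ) ^ 8)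
    (hw : w.Prime) (h : w ∣ N) (h' : w ∣ N') : False := by
  have : Fact w.Prime := ⟨hw⟩
  have h1 := zmod_of_dvd hN h
  have h2 := zmod_of_dvd hN' h'
  push_cast at h1 h2
  apply one_ne_zero (α := ZMod w)
  generalize (q : ZMod w) = x at h1 h2
  linear_combination (1 + x + x ^ 2 - x ^ 5 - x ^ 6 - x ^ 7) * h1 + (-x + x ^ 5 + x ^ 7) * h2

theorem two_ne {w : ℕ} (hw : w.Prime) (h2 : w ≠ 2) : (2 : ZMod w) ≠ 0 := by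
  intro h
  have h1 : ((2 : ℕ) : ZMod w) = 0 := by exact_mod_cast h
  rw [ZMod.natCast_eq_zero_iff] at h1
  exact h2 ((Nat.prime_dvd_prime_iff_eq hw Nat.prime_two).1 h1)

theorem d_15_30 (hN : (N : ℤ) = 1 - (q : ℤ) + (q : ℤ) ^ 3 - (q : ℤ) ^ 4 + (q : ℤ) ^ 5 - (q : ℤ) ^ 7 + (q : ℤ) ^ 8)
    (hN' : (N' : ℤ) = 1 + (q : ℤ) - (q : ℤ) ^ 3 - (q : ℤ) ^ 4 - (q : ℤ) ^ 5 + (q : ℤ) ^ 7 + (q : ℤ) ^ 8)
    (hw : w.Prime) (hw2 : w ≠ 2) (h : w ∣ N) (h' : w ∣ N') : False := by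
  have : Fact w.Prime := ⟨hw⟩
  have h1 := zmod_of_dvd hN h
  have h2 := zmod_of_dvd hN' h'
  push_cast at h1 h2
  apply two_ne hw hw2
  generalize (q : ZMod w) = x at h1 h2
  linear_combination (1 + x + x ^ 2 - x ^ 5 - x ^ 6 - x ^ 7) * h1 + (1 - x + x ^ 2 + x ^ 5 - x ^ 6 + x ^ 7) * h2

theorem d_7_9 (hN : (N : ℤ) = 1 + (q : ℤ) + (q : ℤ) ^ 2 + (q : ℤ) ^ 3 + (q : ℤ) ^ 4 + (q : ℤ) ^ 5 + (q : ℤ) ^ 6)
    (hN' : (N' : ℤ) = 1 + (q : ℤ) ^ 3 + (q : ℤ) ^ 6) (hw : w.Prime) (h : w ∣ N) (h' : w ∣ N') : False := by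
  have : Fact w.Prime := ⟨hw⟩
  have h1 := zmod_of_dvd hN h
  have h2 := zmod_of_dvd hN' h'
  push_cast at h1 h2
  apply one_ne_zero (α := ZMod w)
  generalize (q : ZMod w) = x at h1 h2
  linear_combination (1 - x + x ^ 3 - x ^ 4 + x ^ 5) * h1 + (-x ^ 3 - x ^ 5) * h2

theorem d_7_18 (hN : (N : ℤ) = 1 + (q : ℤ) + (q : ℤ) ^ 2 + (q : ℤ) ^ 3 + (q : ℤ) ^ 4 + (q : ℤ) ^ 5 + (q : ℤ) ^ 6)
    (hN' : (N' : ℤ) = 1 - (q : ℤ) ^ 3 + (q : ℤ) ^ 6) (hw : w.Prime) (h : w ∣ N) (h' : w ∣ N') : False := by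
  have : Fact w.Prime := ⟨hw⟩
  have h1 := zmod_of_dvd hN h
  have h2 := zmod_of_dvd hN' h'
  push_cast at h1 h2
  apply one_ne_zero (α := ZMod w)
  generalize (q : ZMod w) = x at h1 h2
  linear_combination (-1 - x + 2 * x ^ 2 + x ^ 3 - x ^ 4 - x ^ 5) * h1 + (2 + 2 * x + x ^ 3 + 2 * x ^ 4 + x ^ 5) * h2

theorem d_9_18 (hN : (N : ℤ) = 1 + (q : ℤ) ^ 3 + (q : ℤ) ^ 6) (hN' : (N' : ℤ) = 1 - (q : ℤ) ^ 3 + (q : ℤ) ^ 6)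
    (hw : w.Prime) (hw2 : w ≠ 2) (h : w ∣ N) (h' : w ∣ N') : False := by
  have : Fact w.Prime := ⟨hw⟩
  have h1 := zmod_of_dvd hN h
  have h2 := zmod_of_dvd hN' h'
  push_cast at h1 h2
  apply two_ne hw hw2
  generalize (q : ZMod w) = x at h1 h2
  linear_combination (1 - x ^ 3) * h1 + (1 + x ^ 3) * h2

end distinct

section

variable {F : Type u} [Field F] [Fintype F] {q r : ℕ} [hr : Fact r.Prime] [CharP F r]

/-! ### `E₈` -/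

theorem zc_e8 (hq : Fintype.card F = q) {p : ℕ} (hp : p.Prime) : Zc r p ↥(chevE8.group F) := by
  have hq2 : 2 ≤ q := by rw [← hq]; exact Fintype.one_lt_card
  have hrq : r ∣ q := char_dvd (F := F) hq
  obtain ⟨k, hk⟩ := Nat.exists_eq_add_of_le hq2
  obtain ⟨N1, hN1⟩ : ∃ N : ℕ, N = 151 + 635 * k + 1182 * k ^ 2 + 1265 * k ^ 3 + 849 * k ^ 4 + 365 * k ^ 5 + 98 * k ^ 6 +
    15 * k ^ 7 + k ^ 8 := ⟨_, rfl⟩
  obtain ⟨N2, hN2⟩ : ∃ N : ℕ, N = 241 + 992 * k + 1768 * k ^ 2 + 1784 * k ^ 3 + 1119 * k ^ 4 + 448 * k ^ 5 + 112 * k ^ 6 +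
    16 * k ^ 7 + k ^ 8 := ⟨_, rfl⟩
  obtain ⟨N3, hN3⟩ : ∃ N : ℕ, N = 331 + 1349 * k + 2354 * k ^ 2 + 2303 * k ^ 3 + 1389 * k ^ 4 + 531 * k ^ 5 + 126 * k ^ 6 +
    17 * k ^ 7 + k ^ 8 := ⟨_, rfl⟩
  have e1 : (N1 : ℤ) = 1 - (q : ℤ) + (q : ℤ) ^ 3 - (q : ℤ) ^ 4 + (q : ℤ) ^ 5 - (q : ℤ) ^ 7 + (q : ℤ) ^ 8 := by
    rw [hN1, hk]; push_cast; ring
  have e2 : (N2 : ℤ) = 1 - (q : ℤ) ^ 4 + (q : ℤ) ^ 8 := by rw [hN2, hk]; push_cast; ring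
  have e3 : (N3 : ℤ) = 1 + (q : ℤ) - (q : ℤ) ^ 3 - (q : ℤ) ^ 4 - (q : ℤ) ^ 5 + (q : ℤ) ^ 7 + (q : ℤ) ^ 8 := by
    rw [hN3, hk]; push_cast; ring
  have n1 : N1 ≠ 1 := by omega
  have n2 : N2 ≠ 1 := by omega
  have n3 : N3 ≠ 1 := by omega
  have r1 : ¬ r ∣ N1 := not_dvd_of_coprime hr.out hrq
    (UntwData.coprime_of_eq (a := -1 + (q : ℤ) ^ 2 - (q : ℤ) ^ 3 + (q : ℤ) ^ 4 - (q : ℤ) ^ 6 + (q : ℤ) ^ 7)
      (by rw [e1]; ring))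
  have r2 : ¬ r ∣ N2 := not_dvd_of_coprime hr.out hrq
    (UntwData.coprime_of_eq (a := -(q : ℤ) ^ 3 + (q : ℤ) ^ 7) (by rw [e2]; ring))
  have r3 : ¬ r ∣ N3 := not_dvd_of_coprime hr.out hrq
    (UntwData.coprime_of_eq (a := 1 - (q : ℤ) ^ 2 - (q : ℤ) ^ 3 - (q : ℤ) ^ 4 + (q : ℤ) ^ 6 + (q : ℤ) ^ 7)
      (by rw [e3]; ring))
  have p1 := Nat.minFac_prime n1
  have p2 := Nat.minFac_prime n2
  have p3 := Nat.minFac_prime n3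
  have w2 : N1.minFac ≠ 2 := fun h => by
    have h2 : ¬ 2 ∣ Nat.card CoxeterMatrix.E₈.Group := (good_E8_15 e1 Nat.prime_two (h ▸ Nat.minFac_dvd N1)).1
    apply h2
    rw [Cfsg.Agent.H129.CycT.cardW_E8]
    norm_num
  refine zc_of_three hp p1 p2 p3 (fun h => ?_) (fun h => ?_) (fun h => ?_)
    (elt_of_exact (exact_E8_15 hq e1) p1 (Nat.minFac_dvd _) r1)
    (elt_of_exact (exact_E8_24 hq e2) p2 (Nat.minFac_dvd _) r2)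
    (elt_of_exact (exact_E8_30 hq e3) p3 (Nat.minFac_dvd _) r3)
  · exact d_15_24 e1 e2 p1 (Nat.minFac_dvd _) (h ▸ Nat.minFac_dvd _)
  · exact d_15_30 e1 e3 p1 w2 (Nat.minFac_dvd _) (h ▸ Nat.minFac_dvd _)
  · exact d_24_30 e2 e3 p2 (Nat.minFac_dvd _) (h ▸ Nat.minFac_dvd _)

/-! ### `E₇` -/

theorem primes_18 {N : ℕ} (hN : (N : ℤ) = 1 - (q : ℤ) ^ 3 + (q : ℤ) ^ 6) {w : ℕ} (hwN : w ∣ N) :
    w ≠ 2 ∧ w ≠ 5 ∧ w ≠ 7 := by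
  have hz : ∀ n : ℕ, n ∣ N → (1 - (q : ZMod n) ^ 3 + (q : ZMod n) ^ 6 = 0) := by
    intro n h
    have := zmod_of_dvd hN h
    push_cast at this
    exact this
  refine ⟨?_, ?_, ?_⟩
  · rintro rfl
    have h3 := hz 2 hwN
    generalize (q : ZMod 2) = x at h3; revert h3; revert x; decide
  · rintro rfl
    have h3 := hz 5 hwN
    generalize (q : ZMod 5) = x at h3; revert h3; revert x; decide
  · rintro rfl
    have h3 := hz 7 hwN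
    generalize (q : ZMod 7) = x at h3; revert h3; revert x; decide

theorem not_nine_18 {N : ℕ} (hN : (N : ℤ) = 1 - (q : ℤ) ^ 3 + (q : ℤ) ^ 6) : ¬ 3 * 3 ∣ N := by
  intro h
  have h3 := zmod_of_dvd hN h
  push_cast at h3
  have h4 : ∀ x : ZMod 9, 1 - x ^ 3 + x ^ 6 ≠ 0 := by decide
  exact h4 _ h3

theorem not_nine_9 {N : ℕ} (hN : (N : ℤ) = 1 + (q : ℤ) ^ 3 + (q : ℤ) ^ 6) : ¬ 3 * 3 ∣ N := by
  intro h
  have h3 := zmod_of_dvd hN h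
  push_cast at h3
  have h4 : ∀ x : ZMod 9, 1 + x ^ 3 + x ^ 6 ≠ 0 := by decide
  exact h4 _ h3

theorem not_49_7 {N : ℕ} (hN : (N : ℤ) = 1 + (q : ℤ) + (q : ℤ) ^ 2 + (q : ℤ) ^ 3 + (q : ℤ) ^ 4 + (q : ℤ) ^ 5 +
    (q : ℤ) ^ 6) : ¬ 7 * 7 ∣ N := by
  intro h
  have h3 := zmod_of_dvd hN h
  push_cast at h3
  have h4 : ∀ x : ZMod 49, 1 + x + x ^ 2 + x ^ 3 + x ^ 4 + x ^ 5 + x ^ 6 ≠ 0 := by decide +kernel
  exact h4 _ h3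

theorem good_E7_18 {N : ℕ} (hN : (N : ℤ) = 1 - (q : ℤ) ^ 3 + (q : ℤ) ^ 6) {w : ℕ} (hw : w.Prime) (hwN : w ∣ N)
    (hw3 : w ≠ 3) :
    ¬ w ∣ Nat.card CoxeterMatrix.E₇.Group ∧ ∀ s, ¬ (w : ℤ) ∣ Gq DataE7h.B (q : ℤ) (DataE7h.R s) := by
  obtain ⟨h2, h5, h7⟩ := primes_18 hN hwN
  refine ⟨not_dvd_W7 hw h2 hw3 h5 h7, fun s hs => ?_⟩
  rcases DataE7h.dvd_of_G (cast_dvd hN hwN) s hs with h | h
  · exact not_one hw h
  · exact not_prime hw Nat.prime_three hw3 h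

theorem fN_18 {N : ℕ} (hN : (N : ℤ) = 1 - (q : ℤ) ^ 3 + (q : ℤ) ^ 6) :
    fN DataE7h.c (q : ℤ) = (((q + 1) * N : ℕ) : ℤ) ∧ q.Coprime ((q + 1) * N) := by
  have h1 : (((q + 1) * N : ℕ) : ℤ) = 1 + (q : ℤ) - (q : ℤ) ^ 3 - (q : ℤ) ^ 4 + (q : ℤ) ^ 6 + (q : ℤ) ^ 7 := by
    push_cast
    rw [hN]; ring
  exact ⟨by rw [DataE7h.fN_eq, h1],
    UntwData.coprime_of_eq (a := 1 - (q : ℤ) ^ 2 - (q : ℤ) ^ 3 + (q : ℤ) ^ 5 + (q : ℤ) ^ 6) (by rw [h1]; ring)⟩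

theorem dvd_two_mul {w a b c : ℕ} (hw : w.Prime) (hw2 : w ≠ 2) (hwb : w ∣ b) (h : c * b ∣ 2 * a) : w ∣ a := by
  have h1 : w ∣ 2 * a := (hwb.mul_left c).trans h
  rcases (Nat.Prime.dvd_mul hw).1 h1 with h2 | h2
  · exact absurd ((Nat.prime_dvd_prime_iff_eq hw Nat.prime_two).1 h2) hw2
  · exact h2

theorem zc_e7 (hq : Fintype.card F = q) {p : ℕ} (hp : p.Prime) : Zc r p ↥(chevE7.group F) := by
  have := finite_W7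
  have hq2 : 2 ≤ q := by rw [← hq]; exact Fintype.one_lt_card
  have hrq : r ∣ q := char_dvd (F := F) hq
  obtain ⟨k, hk⟩ := Nat.exists_eq_add_of_le hq2
  obtain ⟨N1, hN1⟩ : ∃ N : ℕ, N = 127 + 321 * k + 351 * k ^ 2 + 209 * k ^ 3 + 71 * k ^ 4 + 13 * k ^ 5 + k ^ 6 := ⟨_, rfl⟩
  obtain ⟨N2, hN2⟩ : ∃ N : ℕ, N = 73 + 204 * k + 246 * k ^ 2 + 161 * k ^ 3 + 60 * k ^ 4 + 12 * k ^ 5 + k ^ 6 := ⟨_, rfl⟩
  obtain ⟨N3, hN3⟩ : ∃ N : ℕ, N = 57 + 180 * k + 234 * k ^ 2 + 159 * k ^ 3 + 60 * k ^ 4 + 12 * k ^ 5 + k ^ 6 := ⟨_, rfl⟩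
  have e1 : (N1 : ℤ) = 1 + (q : ℤ) + (q : ℤ) ^ 2 + (q : ℤ) ^ 3 + (q : ℤ) ^ 4 + (q : ℤ) ^ 5 + (q : ℤ) ^ 6 := by
    rw [hN1, hk]; push_cast; ring
  have e2 : (N2 : ℤ) = 1 + (q : ℤ) ^ 3 + (q : ℤ) ^ 6 := by rw [hN2, hk]; push_cast; ring
  have e3 : (N3 : ℤ) = 1 - (q : ℤ) ^ 3 + (q : ℤ) ^ 6 := by rw [hN3, hk]; push_cast; ring
  obtain ⟨w1, p1, d1, c1⟩ := exists_prime_ne (N := N1) (by norm_num : (7 : ℕ).Prime) (by omega) (not_49_7 e1)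
  obtain ⟨w2, p2, d2, c2⟩ := exists_prime_ne (N := N2) Nat.prime_three (by omega) (not_nine_9 e2)
  obtain ⟨w3, p3, d3, c3⟩ := exists_prime_ne (N := N3) Nat.prime_three (by omega) (not_nine_18 e3)
  have t1 : w1 ≠ 2 := (primes_7 e1 d1).1
  have t2 : w2 ≠ 2 := ((primes_9 e2).2 d2).1
  have t3 : w3 ≠ 2 := (primes_18 e3 d3).1
  obtain ⟨f1, g1⟩ := fN_7 hq2 e1
  obtain ⟨f2, g2⟩ := fN_9 hq2 e2
  obtain ⟨f3, g3⟩ := fN_18 e3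
  obtain ⟨T1, -, a1, b1, m1, -⟩ := UntwT.untw_T typeE7 CoxeterMatrix.E₇.toCoxeterSystem (by norm_num) hq
    TorusChar.invC_E7 (by norm_num) DataE7s.hA DataE7s.chainOK DataE7s.cycOK DataE7s.rootOK f1 g1 (d := 2) (Or.inl rfl)
  obtain ⟨T2, -, a2, b2, m2, -⟩ := UntwT.untw_T typeE7 CoxeterMatrix.E₇.toCoxeterSystem (by norm_num) hq
    TorusChar.invC_E7 (by norm_num) DataE7n.hA DataE7n.chainOK DataE7n.cycOK DataE7n.rootOK f2 g2 (d := 2) (Or.inl rfl)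
  obtain ⟨T3, -, a3, b3, m3, -⟩ := UntwT.untw_T typeE7 CoxeterMatrix.E₇.toCoxeterSystem (by norm_num) hq
    TorusChar.invC_E7 (by norm_num) DataE7h.hA DataE7h.chainOK DataE7h.cycOK DataE7h.rootOK f3 g3 (d := 2) (Or.inl rfl)
  refine zc_of_three hp p1 p2 p3 (fun h => ?_) (fun h => ?_) (fun h => ?_)
    (elt_of_T a1 p1 (dvd_two_mul p1 t1 d1 b1) (m1 w1 p1 (good_E7_7 e1 p1 d1 c1).1 (good_E7_7 e1 p1 d1 c1).2)
      (not_dvd_of_coprime hr.out hrq g1))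
    (elt_of_T a2 p2 (dvd_two_mul p2 t2 d2 b2) (m2 w2 p2 (good_E7_9 e2 p2 d2 c2).1 (good_E7_9 e2 p2 d2 c2).2)
      (not_dvd_of_coprime hr.out hrq g2))
    (elt_of_T a3 p3 (dvd_two_mul p3 t3 d3 b3) (m3 w3 p3 (good_E7_18 e3 p3 d3 c3).1 (good_E7_18 e3 p3 d3 c3).2)
      (not_dvd_of_coprime hr.out hrq g3))
  · exact d_7_9 e1 e2 p1 d1 (h ▸ d2)
  · exact d_7_18 e1 e3 p1 d1 (h ▸ d3)
  · exact d_9_18 e2 e3 p2 t2 d2 (h ▸ d3)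

end

/-! ### The rows -/

section rows

variable {K : Type*} [Group K] [Finite K] [IsSimpleGroup K] {F : Type} [Field F] [Fintype F] {r p : ℕ}
  [Fact r.Prime] [hp' : Fact p.Prime] [CharP F r]

/-- **`E₇(q)`** -/
theorem crow_e7 (e : Nonempty (K ≃* Cfsg.Lie.chevE7.group F)) (_hp : 5 ≤ p) (_hpr : p ≠ r) :
    Cfsg.Agent.H301.SY.CRow r p K := by
  obtain ⟨e⟩ := e
  intro x _ _ _
  exact Or.inr (Or.inr ((zc_e7 (F := F) rfl hp'.out).congr e))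

/-- **`E₈(q)`** -/
theorem crow_e8 (e : Nonempty (K ≃* Cfsg.Lie.chevE8.group F)) (_hp : 5 ≤ p) (_hpr : p ≠ r) :
    Cfsg.Agent.H301.SY.CRow r p K := by
  obtain ⟨e⟩ := e
  intro x _ _ _
  exact Or.inr (Or.inr ((zc_e8 (F := F) rfl hp'.out).congr e))

end rows

end Cfsg.Agent.H120.ZcE
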